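import Groth.Agent.FlatBC6.Theta
import Groth.Agent.FlatBC6.Zero
import Groth.Prelude.Def_CohBC2

/-!
# The edge morphism to the push forward along an affine morphism
-/

set_option backward.isDefEq.respectTransparency false
set_option backward.isDefEq.respectTransparency.types false
set_option linter.style.haveILetI false
set_option autoImplicit false
set_option maxHeartbeats 1000000

universe u

open CategoryTheory CategoryTheory.Limits AlgebraicGeometry TopologicalSpace Opposite

namespace Groth.Agent.LerayEdge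

open Groth.Agent.QCoh Groth.Agent.FlatBC6

variable {X Y Z : Scheme.{u}} (f : X ⟶ Y) (g : Y ⟶ Z) [HasInjectiveResolutions X.Modules]

theorem rcl_edgeOut (M : X.Modules) (k : ℕ) :
    rcl M (f ≫ g) k ≫ CohBC.lerayEdgeOut f g k M =
      (Scheme.Modules.pushforwardComp f g).inv.app (godQ M k) ≫
        (Scheme.Modules.pushforward g).map (rcl M f k) := by
  haveI := (Scheme.Modules.pullbackPushforwardAdjunction g).isRightAdjoint
  let Φ := Scheme.Modules.pushforward f
  let Ψ := Scheme.Modules.pushforward g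
  let H := Scheme.Modules.pushforward (f ≫ g)
  let e : Φ ⋙ Ψ ≅ H := Scheme.Modules.pushforwardComp f g
  let I := injectiveResolution M
  let T := resLift M
  have h4 : (T.cl (Φ ⋙ Ψ) k ≫ (I.isoRightDerivedObj (Φ ⋙ Ψ) k).inv) ≫ RDer.edgeOut Φ Ψ k M =
      Ψ.map (rcl M f k) := by
    refine (Category.assoc _ _ _).trans ?_
    dsimp only [RDer.edgeOut]
    rw [Iso.inv_hom_id_assoc, ← Category.assoc]
    exact (congrArg (· ≫ _) (cl_homologyComparison Φ Ψ T k)).trans (Ψ.map_comp _ _).symm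
  have h3 : rcl M (f ≫ g) k ≫ (RDer.rightDerivedIso e k).inv.app M =
      e.inv.app (godQ M k) ≫ T.cl (Φ ⋙ Ψ) k ≫ (I.isoRightDerivedObj (Φ ⋙ Ψ) k).inv := by
    refine (Category.assoc _ _ _).trans ?_
    refine (congrArg (fun t => T.cl H k ≫ (I.isoRightDerivedObj H k).inv ≫ t)
      (InjectiveResolution.rightDerived_app_eq e.inv I k)).trans ?_
    refine (congrArg (T.cl H k ≫ ·) (Iso.inv_hom_id_assoc _ _)).trans ?_
    refine (Category.assoc _ _ _).symm.trans (Eq.trans ?_ (Category.assoc _ _ _))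
    exact congrArg (· ≫ _) (T.cl_natTrans H e.inv k)
  refine (Category.assoc _ _ _).symm.trans ?_
  refine (congrArg (· ≫ RDer.edgeOut Φ Ψ k M) h3).trans ?_
  exact (Category.assoc _ _ _).trans (congrArg (e.inv.app (godQ M k) ≫ ·) h4)

theorem isIso_lerayEdgeOut [QuasiCompact f] [QuasiSeparated f] [IsAffineHom g]
    {M : X.Modules} (hM : Coh.IsQCoh M) (k : ℕ) : IsIso (CohBC.lerayEdgeOut f g k M) := by
  refine isIso_of_app_affPair (g := 𝟙 Z) _ fun _ W _ hW _ => ?_
  have hW' : IsAffineOpen (g ⁻¹ᵁ W) := hW.preimage g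
  obtain ⟨hs, hk⟩ := app_rcl_spec (f ≫ g) hM hW k
  obtain ⟨hs', hk'⟩ := app_rcl_spec f hM hW' k
  have key : ∀ z : Γ(godQ M k, f ⁻¹ᵁ (g ⁻¹ᵁ W)),
      (CohBC.lerayEdgeOut f g k M).app W ((rcl M (f ≫ g) k).app W z) = (rcl M f k).app (g ⁻¹ᵁ W) z := by
    intro z
    exact congr(($(rcl_edgeOut f g M k)).app W z)
  refine ⟨(injective_iff_map_eq_zero _).2 fun y hy => ?_, fun y => ?_⟩
  · obtain ⟨z, rfl⟩ := hs y
    exact (hk z).2 ((hk' z).1 ((key z).symm.trans hy))
  · obtain ⟨z, hz⟩ := hs' y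
    exact ⟨_, (key z).trans hz⟩

end Groth.Agent.LerayEdge
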